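/-
helper14: project GOUT (= S3066), block PL, module [PL-CENT] in `_of` form
(hypothesis `hcomm` = the conclusion of [PL-COMM] `closure_comm_eq_top`).
-/
import Mathlib
import Cfsg.Agent.Lib.Helper76.GOut.QFDefs
import Cfsg.Agent.Lib.Helper76.GOut.PLDefs

set_option autoImplicit false
set_option linter.unusedSectionVars false

namespace Cfsg.Agent.Lib.Helper14.GOut

open Cfsg.Agent.Lib.Helper76.GOut

universe u v

variable {Q : Type u} {R : Type v} [Group Q] [Finite Q] [Group R] {α : R →* MulAut Q}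

/-- [PL-CENT], `_of` form: proper invariant normal subgroups are central. -/
theorem le_center_of_normal_of (h : PLHyp α)
    (hcomm : Subgroup.closure {x : Q | ∃ (r : R) (u : Q), x = u⁻¹ * α r u} = ⊤)
    (M : Subgroup Q) [hn : M.Normal] (hM : M ≠ ⊤)
    (hinv : ∀ r : R, ∀ u ∈ M, α r u ∈ M) : M ≤ Subgroup.center Q := by
  intro m hm
  have hfix := h.min M hM hinv
  have key : ∀ g ∈ Subgroup.closure {x : Q | ∃ (r : R) (u : Q), x = u⁻¹ * α r u}, g * m = m * g := by
    intro g hg
    induction hg using Subgroup.closure_induction with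
    | mem x hx =>
      obtain ⟨r, u, rfl⟩ := hx
      have h1 : α r (u * m * u⁻¹) = u * m * u⁻¹ := hfix r _ (hn.conj_mem m hm u)
      rw [map_mul, map_mul, map_inv, hfix r m hm] at h1
      calc u⁻¹ * α r u * m = u⁻¹ * (α r u * m * (α r u)⁻¹) * α r u := by group
        _ = u⁻¹ * (u * m * u⁻¹) * α r u := by rw [h1]
        _ = m * (u⁻¹ * α r u) := by group
    | one => rw [one_mul, mul_one]
    | mul x y _ _ hx hy => rw [mul_assoc, hy, ← mul_assoc, hx, mul_assoc]
    | inv x _ hx =>
      calc x⁻¹ * m = x⁻¹ * (m * x) * x⁻¹ := by group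
        _ = x⁻¹ * (x * m) * x⁻¹ := by rw [hx]
        _ = m * x⁻¹ := by group
  rw [Subgroup.mem_center_iff]
  intro g
  exact key g (by rw [hcomm]; trivial)

end Cfsg.Agent.Lib.Helper14.GOut
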