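/-
helper14: project GOUT (= S3066), block PL, module [PL-CORE] in `_of` form
(hypotheses = conclusions of [PL-MOD1] + [PL-MOD2], of [PL-CLASS2] `exists_not_mem_center`, and `QF_main`).
-/
import Mathlib
import Cfsg.Agent.Lib.Helper76.GOut.QFDefs
import Cfsg.Agent.Lib.Helper76.GOut.PLDefs

set_option autoImplicit false
set_option linter.unusedSectionVars false

namespace Cfsg.Agent.Lib.Helper14.GOut

open Cfsg.Agent.Lib.Helper76.GOut

universe u v

/-- a perfect solvable group is trivial. -/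
theorem subsingleton_of_perfect_of_solvable {S : Type*} [Group S] (hp : commutator S = ⊤)
    (hs : Group.IsSolvable S) : Subsingleton S := by
  by_contra hns
  rw [not_subsingleton_iff_nontrivial] at hns
  have := hs
  exact (Group.IsSolvable.commutator_lt_top_of_nontrivial S).ne hp

/-- a quotient of a perfect group is perfect. -/
theorem commutator_quotient_eq_top {S : Type*} [Group S] (hp : commutator S = ⊤) (N : Subgroup S)
    [N.Normal] : commutator (S ⧸ N) = ⊤ := by
  have h1 : (commutator S).map (QuotientGroup.mk' N) = commutator (S ⧸ N) := by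
    rw [commutator_def, commutator_def, Subgroup.map_commutator,
      Subgroup.map_top_of_surjective _ (QuotientGroup.mk'_surjective N)]
  rw [← h1, hp, Subgroup.map_top_of_surjective _ (QuotientGroup.mk'_surjective N)]

theorem irr_kerLift {V : Type*} [AddCommGroup V] [Module (ZMod 2) V] {R : Type*} [Group R]
    (ρ : R →* (V ≃ₗ[ZMod 2] V)) (h : Irr ρ) : Irr (QuotientGroup.kerLift ρ) := by
  intro W hW
  apply h W
  intro g w hw
  have := hW (QuotientGroup.mk g) w hw
  rwa [QuotientGroup.kerLift_mk] at this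

theorem aniso_kerLift {V : Type*} [AddCommGroup V] [Module (ZMod 2) V] {R : Type*} [Group R]
    (ρ : R →* (V ≃ₗ[ZMod 2] V)) (h : Aniso ρ) : Aniso (QuotientGroup.kerLift ρ) := by
  intro v hv
  obtain ⟨q, ⟨hq1, hq2⟩, hqv⟩ := h v hv
  refine ⟨q, ⟨hq1, ?_⟩, hqv⟩
  intro g w
  obtain ⟨g, rfl⟩ := QuotientGroup.mk_surjective g
  rw [QuotientGroup.kerLift_mk]
  exact hq2 g w

variable {Q : Type u} {R : Type v} [Group Q] [Finite Q] [Group R] {α : R →* MulAut Q}

/-- [PL-CORE], `_of` form. -/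
theorem PL_core_of [Finite R] (h : PLHyp α)
    (hmod : ∃ (V : Type u) (_ : AddCommGroup V) (_ : Module (ZMod 2) V) (_ : Finite V)
      (ρ : R →* (V ≃ₗ[ZMod 2] V)) (π : Q → V),
      Function.Surjective π ∧ (∀ u v : Q, π (u * v) = π u + π v) ∧
      (∀ u : Q, π u = 0 ↔ u ∈ Subgroup.center Q) ∧ (∀ (r : R) (u : Q), π (α r u) = ρ r (π u)) ∧
      Irr ρ ∧ Aniso ρ)
    (hnc : ∃ (r : R) (u : Q), u⁻¹ * α r u ∉ Subgroup.center Q)
    (hQF : ∀ {V : Type u} [AddCommGroup V] [Module (ZMod 2) V] [Finite V] {R' : Type v} [Group R']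
      [Finite R'] (ρ : R' →* (V ≃ₗ[ZMod 2] V)), Function.Injective ρ → Irr ρ → Aniso ρ →
      IsSolvable R') : False := by
  obtain ⟨V, _, _, _, ρ, π, -, hπm, hπk, hπe, hirr, han⟩ := hmod
  obtain ⟨r, u, hru⟩ := hnc
  have hsolv : IsSolvable (R ⧸ ρ.ker) :=
    hQF (QuotientGroup.kerLift ρ) (QuotientGroup.kerLift_injective ρ) (irr_kerLift ρ hirr)
      (aniso_kerLift ρ han)
  have hsub : Subsingleton (R ⧸ ρ.ker) :=
    subsingleton_of_perfect_of_solvable (commutator_quotient_eq_top h.perf _) hsolv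
  have hr : r ∈ ρ.ker := by
    rw [← QuotientGroup.eq_one_iff]
    exact Subsingleton.elim _ _
  rw [MonoidHom.mem_ker] at hr
  apply hru
  rw [← hπk, hπm, hπe, hr]
  have h1 : π u⁻¹ + π u = 0 := by
    rw [← hπm, inv_mul_cancel, hπk]
    exact Subgroup.one_mem _
  exact h1

end Cfsg.Agent.Lib.Helper14.GOut
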