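/-
helper14: project GOUT (= S3066), block PL, module [PL-PERF] (exact statement of the skeleton).
-/
import Mathlib
import Cfsg.Agent.Lib.Helper35.PerfectCore

set_option autoImplicit false

namespace Cfsg.Agent.Lib.Helper14.GOut

/-- A finite nonsolvable group has a nontrivial perfect subgroup (the last term of the derived series). -/
theorem exists_perfect_of_not_solvable {Γ : Type*} [Group Γ] [Finite Γ] (h : ¬ IsSolvable Γ) :
    ∃ R : Subgroup Γ, R ≠ ⊥ ∧ commutator R = ⊤ := by
  obtain ⟨D, -, hD, hDD⟩ := Cfsg.Agent.Lib.Helper35.exists_perfect_normal_of_not_isSolvable h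
  refine ⟨D, hD, ?_⟩
  apply Subgroup.map_injective D.subtype_injective
  rw [commutator_def, Subgroup.map_commutator, ← MonoidHom.range_eq_map, Subgroup.range_subtype, hDD]

end Cfsg.Agent.Lib.Helper14.GOut
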